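import Cfsg.Agent.H325.TD2.Res
import Cfsg.Agent.H788.Der.DTwoCtx
import Cfsg.Agent.H349.KD4.Main
import Cfsg.Agent.H563.KG.Core
import Cfsg.Agent.H278.Cov.Defs

/-!
# `³D₄(2)` is not the union of the conjugates of two proper subgroups (helper325)
-/

set_option autoImplicit false

namespace Cfsg.Agent.H325.TD2

open Subgroup Cfsg Cfsg.Lie Cfsg.Agent.OrdDiv Cfsg.Agent.H436 Cfsg.Agent.H902.Names Cfsg.Agent.H264.FKS Cfsg.Agent.H915.GN
  Cfsg.Agent.H264.GN Cfsg.Agent.H56.Exc Cfsg.Agent.H290.ElReg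
  Cfsg.Agent.H563.KG Cfsg.Agent.H278.Cov

theorem noTwo_twistedD4_two (tb : OrderTable.{0})
    (hkn : ∀ (S : Type) [Group S] [Finite S], IsSimpleGroup S → IsKnownSimple' S)
    (hE : CycFixSolv.{0}) {K : Type} [Field K] [Fintype K] (hK : Fintype.card K = 8) : NoTwo ↥(twistedD4 K 2) := by
  have C := Cfsg.Agent.H788.Der.DTwo.ctx hK
  have hfin := C.fin
  have i13 : Fact (Nat.Prime 13) := ⟨by norm_num⟩
  have h52 : ∀ M : Subgroup ↥(twistedD4 K 2), M ≠ ⊤ → 13 ∣ Nat.card M → Nat.card M ∣ 52 := by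
    intro M hM h13
    have h1 := (Cfsg.Agent.H349.KD4.kfull_TD4 tb hkn hE (p := 2) (f := 1) Nat.prime_two le_rfl
      (K := K) (by rw [hK]; norm_num) M ?_).resolve_left hM
    · exact h1.trans (by decide)
    · intro r hr hd
      have h2 : r ∣ 13 * (5 * 7 * 9) := (hr.dvd dvd_rfl).trans (by norm_num)
      have h13i : ¬ 13 ∣ M.index := by
        intro h
        have h3 : 13 * 13 ∣ Nat.card M * M.index := Nat.mul_dvd_mul h13 h
        rw [M.card_mul_index, C.card] at h3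
        norm_num at h3
      have h4 : 12 < r := Cfsg.Agent.H563.KG.lt_of_prim (by norm_num) (by norm_num) hr
      rcases hr.prime.dvd_mul.1 h2 with h5 | h5
      · exact h13i ((Nat.prime_dvd_prime_iff_eq hr.prime (by norm_num)).1 h5 ▸ hd)
      · have h6 : r ∣ 5 * 7 * 9 := h5
        rcases hr.prime.dvd_mul.1 h6 with h7 | h7
        · rcases hr.prime.dvd_mul.1 h7 with h8 | h8
          · have := Nat.le_of_dvd (by norm_num) h8
            omega
          · have := Nat.le_of_dvd (by norm_num) h8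
            omega
        · have := Nat.le_of_dvd (by norm_num) h7
          omega
  have hav : ∀ {M : Subgroup ↥(twistedD4 K 2)}, Nat.card M ∣ 52 → ∀ {z : ↥(twistedD4 K 2)},
      (orderOf z = 7 ∨ orderOf z = 8 ∨ orderOf z = 9) → Av z M := by
    intro M hM z hz
    apply av_of_card
    intro h
    have h1 := h.trans hM
    rcases hz with h2 | h2 | h2 <;> rw [h2] at h1 <;> norm_num at h1
  have hmiss : ∀ M : Subgroup ↥(twistedD4 K 2), ¬ 13 ∣ Nat.card M →
      ∃ z, (orderOf z = 7 ∨ orderOf z = 8 ∨ orderOf z = 9) ∧ Av z M := by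
    intro M hM
    obtain ⟨z, hz, h⟩ := miss C tb (fun S _ _ _ => hkn S inferInstance) hM
    exact ⟨z, hz, fun g => h (MulAut.conj g)⟩
  intro H L hH hL
  by_cases h1 : 13 ∣ Nat.card H
  · by_cases h2 : 13 ∣ Nat.card L
    · obtain ⟨z, hz⟩ := C.e9
      exact ⟨z, hav (h52 H hH h1) (Or.inr (Or.inr hz)), hav (h52 L hL h2) (Or.inr (Or.inr hz))⟩
    · obtain ⟨z, hz, h⟩ := hmiss L h2
      exact ⟨z, hav (h52 H hH h1) hz, h⟩
  · by_cases h2 : 13 ∣ Nat.card L
    · obtain ⟨z, hz, h⟩ := hmiss H h1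
      exact ⟨z, h, hav (h52 L hL h2) hz⟩
    · obtain ⟨x, hx⟩ := exists_prime_orderOf_dvd_card' 13 (G := ↥(twistedD4 K 2)) (by rw [C.card]; norm_num)
      exact ⟨x, av_of_card (by rw [hx]; exact h1), av_of_card (by rw [hx]; exact h2)⟩

/-- **`³D₄(2)`.** -/
theorem noTwo_td4_two (tb : OrderTable.{0})
    (hkn : ∀ (S : Type) [Group S] [Finite S], IsSimpleGroup S → IsKnownSimple' S)
    (hE : CycFixSolv.{0}) {T : Type*} [Group T] (h : IsNamed (.td4 2) T) : NoTwo T := by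
  obtain ⟨K, _, _, hK, ⟨e⟩⟩ := h.real
  exact (noTwo_twistedD4_two tb hkn hE (K := K) (by rw [hK]; norm_num)).congr e.symm

end Cfsg.Agent.H325.TD2
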